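import Groth.Agent.Etrest.K1
import Groth.Agent.S0691
import Groth.Agent.S0727
import Groth.Agent.EtpbcA.CdExact
import Mathlib.AlgebraicGeometry.Morphisms.Immersion
import Mathlib.AlgebraicGeometry.Morphisms.Proper

/-!
# Vanishing of compactly supported cohomology does not depend on the compactification
-/

set_option autoImplicit false
universe u
open CategoryTheory CategoryTheory.Limits AlgebraicGeometry Opposite

namespace Groth.Agent.Sga2lef.H92.Indep

open Groth.Agent.EtpbcA

theorem H_extZero_iff {X W Z : Scheme.{u}} (k : X ⟶ W) (h : W ⟶ Z) (j : X ⟶ Z) [IsOpenImmersion k]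
    [IsOpenImmersion j] [IsProper h] (w : k ≫ h = j) (F : EtCoh.Ab X) (hF : EtCoh.IsTorsion F) (n : ℕ) :
    Subsingleton (EtCoh.H W ((EtShriek.extZero k).obj F) n) ↔
      Subsingleton (EtCoh.H Z ((EtShriek.extZero j).obj F) n) := by
  obtain ⟨e⟩ := Groth.Agent.Etrest.K1.nonempty_deg0 k h j w
  obtain ⟨e2⟩ := Groth.Agent.S0727.result k
  have hz : ∀ q : ℕ, IsZero ((EtCoh.Rpush h (q + 1)).obj ((EtShriek.extZero k).obj F)) := fun q =>
    ((Groth.Agent.S0691.result k h j w.symm F hF).2 (q + 1) q.succ_pos).of_iso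
      ((EtCoh.Rpush h (q + 1)).mapIso (e2.app F))
  rw [← CdExact.H_push_iff_of_isZero h _ hz n]
  constructor
  · intro h1
    exact CdEtLeray.H_subsingleton_of_iso (e.app F).symm n h1
  · intro h1
    exact CdEtLeray.H_subsingleton_of_iso (e.app F) n h1

/-- Two compactifications are dominated by a third one. -/
theorem exists_dominating {X P P' S : Scheme.{u}} (j : X ⟶ P) (g : P ⟶ S) (j' : X ⟶ P') (g' : P' ⟶ S)
    [IsOpenImmersion j] [IsOpenImmersion j'] [IsProper g] [IsProper g'] (w : j ≫ g = j' ≫ g')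
    [QuasiCompact (j ≫ g)] :
    ∃ (W : Scheme.{u}) (k : X ⟶ W) (h : W ⟶ P) (h' : W ⟶ P'), IsOpenImmersion k ∧
      IsProper h ∧ IsProper h' ∧ k ≫ h = j ∧ k ≫ h' = j' := by
  let i : X ⟶ pullback g g' := pullback.lift j j' w
  have hi1 : i ≫ pullback.fst g g' = j := pullback.lift_fst _ _ _
  have hi2 : i ≫ pullback.snd g g' = j' := pullback.lift_snd _ _ _
  have : IsImmersion (i ≫ pullback.fst g g') := by rw [hi1]; infer_instance
  have hii : IsImmersion i := IsImmersion.of_comp i (pullback.fst g g')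
  have : QuasiCompact j := QuasiCompact.of_comp j g
  have : QuasiCompact (i ≫ pullback.fst g g') := by rw [hi1]; infer_instance
  have : QuasiCompact i := QuasiCompact.of_comp i (pullback.fst g g')
  obtain ⟨W, k, m, hk, hm, fac⟩ := (IsImmersion.isImmersion_iff_exists_of_quasiCompact (f := i)).1 hii
  refine ⟨W, k, m ≫ pullback.fst g g', m ≫ pullback.snd g g', hk, inferInstance,
    inferInstance, ?_, ?_⟩
  · rw [reassoc_of% fac, hi1]
  · rw [reassoc_of% fac, hi2]

/-- Vanishing of compactly supported cohomology does not depend on the compactification. -/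
theorem H_extZero_iff_of_compactifications {X P P' S : Scheme.{u}} (j : X ⟶ P) (g : P ⟶ S) (j' : X ⟶ P')
    (g' : P' ⟶ S) [IsOpenImmersion j] [IsOpenImmersion j'] [IsProper g] [IsProper g']
    (w : j ≫ g = j' ≫ g') [QuasiCompact (j ≫ g)] (F : EtCoh.Ab X) (hF : EtCoh.IsTorsion F) (n : ℕ) :
    Subsingleton (EtCoh.H P ((EtShriek.extZero j).obj F) n) ↔
      Subsingleton (EtCoh.H P' ((EtShriek.extZero j').obj F) n) := by
  obtain ⟨W, k, h, h', hk, hp, hp', e, e'⟩ := exists_dominating j g j' g' w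
  rw [← H_extZero_iff k h j e F hF n, H_extZero_iff k h' j' e' F hF n]

end Groth.Agent.Sga2lef.H92.Indep
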