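import Groth.Agent.Sga2lef.H92.HcAff
import Groth.Agent.Sga2lef.H92.Indep
import Groth.Agent.Sga2lef.H92.EmbData

/-!
# Vanishing of compactly supported cohomology: affine case
-/

set_option autoImplicit false
universe u
open CategoryTheory CategoryTheory.Limits AlgebraicGeometry Opposite

namespace Groth.Agent.Sga2lef.H92.AffCase

open Groth.Agent.Sga2lef.H92.EmbData Groth.Agent.Sga5.HcConst

theorem isTorsion_const_zmod (U : Scheme.{u}) (m : ℕ) (hm : m ≠ 0) :
    EtCoh.IsTorsion (EtCoh.const U (ZMod m)) :=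
  isTorsion_of_killedBy m hm _ (killedBy_const U m (ZMod m) (zmod_nsmul m))

theorem subsingleton_H_of_emb (K : Type u) [Field K] [IsAlgClosed K] {U P : Scheme.{u}}
    (g : P ⟶ Spec (CommRingCat.of K)) [IsProper g] (j : U ⟶ P) [IsOpenImmersion j]
    (n : ℕ) (h : Emb K (j ≫ g) n) (m : ℕ) (hm : (m : K) ≠ 0) (q : ℕ) (hq : q < n) :
    Subsingleton (EtCoh.H P ((EtShriek.extZero j).obj (EtCoh.const U (ZMod m))) q) := by
  have hm0 : m ≠ 0 := by
    rintro rfl
    exact hm (by simp)
  obtain ⟨Y, Q, gQ, a, i, N, _, _, _, hsm, _, hf, hn, hW⟩ := h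
  have hc1 : CompactSpace Q := QuasiCompact.compactSpace_of_compactSpace gQ
  have hc2 : QuasiSeparatedSpace Q := (quasiSeparated_iff_quasiSeparatedSpace gQ).1 inferInstance
  have hqa : QuasiCompact a := QuasiCompact.of_comp a gQ
  obtain ⟨P', j', q', h1, h2, h3⟩ := Groth.Agent.Sga5.FinShriek.exists_compactification a i
  have hw : j ≫ g = j' ≫ (q' ≫ gQ) := by
    rw [← hf, reassoc_of% h3.w]
  have hqc : QuasiCompact (j ≫ g) := by
    rw [← hf]
    infer_instance
  rw [Indep.H_extZero_iff_of_compactifications j g j' (q' ≫ gQ) hw _ (isTorsion_const_zmod U m hm0) q]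
  obtain ⟨e⟩ := Groth.Agent.S0653.result q' a j' i h3 (EtCoh.const U (ZMod m))
  refine (Groth.Agent.EtpbcA.CdExact.H_push_iff_of_isZero q'
    ((EtShriek.extZero j').obj (EtCoh.const U (ZMod m)))
    (fun m => Groth.Agent.S0071.result q' _ (m + 1) (by omega)) q).1 ?_
  exact Groth.Agent.EtpbcA.CdEtLeray.H_subsingleton_of_iso e.symm q
    (HcAff.subsingleton_H_closed K gQ a N i n hn hW m hm q hq)

end Groth.Agent.Sga2lef.H92.AffCase
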