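import Groth.Agent.Sga2lef.H92.MV
import Groth.Agent.Sga2lef.H92.LocU
import Groth.Agent.EtpbcA.ArtinMain
import Groth.Agent.EtpbcA.CdEtLeray
import Groth.Agent.EtpbcA.RpushTors

/-!
# Cohomological dimension of an open subset which is locally a union of `r` affine opens
-/

set_option autoImplicit false
universe u
open CategoryTheory CategoryTheory.Limits AlgebraicGeometry Opposite

namespace Groth.Agent.Sga2lef.H92.RelCd

open Groth.Agent.EtpbcB Groth.Agent.EtpbcB.PBCVan Groth.Agent.EtpbcA Groth.Agent.EtpbcA.Artin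
  Groth.Agent.Sga2lef.H92.MV Groth.Agent.Sga2lef.H92.LocU

section

variable (K : Type u) [Field K] {Y : Scheme.{u}} [IsAffine Y] (aY : Y ⟶ Spec (CommRingCat.of K))
  [LocallyOfFiniteType aY] (N : ℕ) (hY : ∀ y : Y, EtPBC.ResTrdegLE aY y N)

omit [IsAffine Y] [LocallyOfFiniteType aY] in
include hY in
theorem resTrdegLE_open {U : Scheme.{u}} (j : U ⟶ Y) [IsOpenImmersion j] (x : U) :
    EtPBC.ResTrdegLE (j ≫ aY) x N :=
  (resTrdegLE_comp_iff aY j x (algAt_of_surjectiveOnStalks j x) N).2 (hY (j x))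

include aY in
theorem quasiCompact_of_open {U : Scheme.{u}} (j : U ⟶ Y) [IsOpenImmersion j] : QuasiCompact j := by
  have h1 : IsLocallyNoetherian Y := LocallyOfFiniteType.isLocallyNoetherian aY
  have h2 : IsNoetherian Y := {}
  have h3 : TopologicalSpace.NoetherianSpace Y := inferInstance
  have h4 : TopologicalSpace.NoetherianSpace U := j.isOpenEmbedding.isInducing.noetherianSpace
  infer_instance

include hY in
theorem not_mem_supp_of_affine (y : Y) (e : ℕ) (hy : ∀ b, EtPBC.ResTrdegLE aY y b → e ≤ b)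
    {U : Scheme.{u}} (j : U ⟶ Y) [IsOpenImmersion j] [IsAffine U] (F : EtCoh.Ab U)
    (hF : EtCoh.IsTorsion F) (q : ℕ) (hq : N < e + q) :
    y ∉ EtPBC.supp ((EtCoh.Rpush j q).obj F) := by
  have hj : IsAffineHom j := inferInstance
  exact not_mem_supp_Rpush_of_trdeg K (j ≫ aY) aY j rfl N e q hq y hy (fun m _ => PA_all m) F hF
    (fun x _ => resTrdegLE_open K aY N hY j x)

include hY in
/-- Stalks of higher direct images along the inclusion of a union of `r + 1` affine opens. -/
theorem not_mem_supp_of_union (y : Y) (e : ℕ) (hy : ∀ b, EtPBC.ResTrdegLE aY y b → e ≤ b) (r : ℕ) :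
    ∀ {U : Scheme.{u}} (j : U ⟶ Y) [IsOpenImmersion j] (V : Fin (r + 1) → U.Opens)
      (_ : ∀ i, IsAffineOpen (V i)) (_ : ⨆ i, V i = ⊤) (F : EtCoh.Ab U) (_ : EtCoh.IsTorsion F)
      (q : ℕ) (_ : N + r < e + q), y ∉ EtPBC.supp ((EtCoh.Rpush j q).obj F) := by
  have heN : e ≤ N := hy N (hY y)
  induction r with
  | zero =>
    intro U j _ V hV hcov F hF q hq
    have hU : IsAffine U := by
      have h1 : V 0 = ⊤ := by
        rw [← hcov]
        apply le_antisymm (le_iSup V 0)
        refine iSup_le fun i => ?_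
        rw [Fin.fin_one_eq_zero i]
      have h2 := hV 0
      rw [h1] at h2
      have h3 : IsAffine ((⊤ : U.Opens) : Scheme.{u}) := h2
      exact IsAffine.of_isIso U.topIso.inv
    exact not_mem_supp_of_affine K aY N hY y e hy j F hF q (by omega)
  | succ r ih =>
    intro U j _ V hV hcov F hF q hq
    have hsep : IsSeparated (terminal.from U) := by
      have : terminal.from U = j ≫ terminal.from _ := Subsingleton.elim _ _
      rw [this]
      infer_instance
    let L : U.Opens := V (Fin.last (r + 1))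
    let W : U.Opens := ⨆ a : Fin (r + 1), V a.castSucc
    have hLW : L ⊔ W = ⊤ := by
      rw [← hcov]
      apply le_antisymm
      · exact sup_le (le_iSup V _) (iSup_le fun a => le_iSup V _)
      · refine iSup_le fun a => ?_
        refine Fin.lastCases le_sup_left (fun a => ?_) a
        exact le_trans (le_iSup (fun a : Fin (r + 1) => V a.castSucc) a) le_sup_right
    have hqc : ∀ {U : Scheme.{u}} (j : U ⟶ Y) [IsOpenImmersion j], QuasiCompact j := fun j _ =>
      quasiCompact_of_open K aY j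
    have htors : ∀ O : U.Opens, EtCoh.IsTorsion ((EtCoh.pull O.ι).obj F) := fun O =>
      Groth.Agent.Etcore.Torsion.isTorsion_pull _ F hF
    obtain ⟨q, rfl⟩ : ∃ q', q = q' + 1 := ⟨q - 1, by omega⟩
    obtain ⟨R, _, _, _, _, hR⟩ := Groth.Agent.S0537.result (Y.presheaf.stalk y)
    have hq0 := hqc j
    have hq1 := hqc ((L ⊓ W).ι ≫ j)
    have hq2 := hqc (L.ι ≫ j)
    have hq3 := hqc (W.ι ≫ j)
    rw [not_mem_supp_Rpush_iff j F (q + 1) y R]
    refine van_mv j _ F L W hLW q ?_ ?_ ?_
    · rw [← not_mem_supp_Rpush_iff ((L ⊓ W).ι ≫ j) _ q y R]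
      refine ih ((L ⊓ W).ι ≫ j) (fun a => (L ⊓ W).ι ⁻¹ᵁ V a.castSucc) (fun a => ?_) ?_ _
        (htors _) q (by omega)
      · have h1 : (L ⊓ W).ι ⁻¹ᵁ V a.castSucc = (L ⊓ W).ι ⁻¹ᵁ (L ⊓ V a.castSucc) := by
          ext x
          simp only [Scheme.Hom.coe_preimage, TopologicalSpace.Opens.coe_inf, Set.mem_preimage,
            Set.mem_inter_iff]
          exact ⟨fun h => ⟨x.2.1, h⟩, fun h => h.2⟩
        rw [h1]
        have h2 : IsAffineOpen (L ⊓ V a.castSucc) := (hV _).inf (hV _)
        refine h2.preimage_of_isOpenImmersion _ ?_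
        rw [Scheme.Opens.opensRange_ι]
        exact inf_le_inf_left _ (le_iSup (fun a : Fin (r + 1) => V a.castSucc) a)
      · rw [← Scheme.Hom.preimage_iSup]
        ext x
        simp only [TopologicalSpace.Opens.coe_top, Set.mem_univ, iff_true]
        exact x.2.2
    · rw [← not_mem_supp_Rpush_iff (L.ι ≫ j) _ (q + 1) y R]
      have : IsAffine L := hV _
      exact not_mem_supp_of_affine K aY N hY y e hy (L.ι ≫ j) _ (htors _) (q + 1) (by omega)
    · rw [← not_mem_supp_Rpush_iff (W.ι ≫ j) _ (q + 1) y R]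
      refine ih (W.ι ≫ j) (fun a => W.ι ⁻¹ᵁ V a.castSucc) (fun a => ?_) ?_ _ (htors _) (q + 1)
        (by omega)
      · refine (hV a.castSucc).preimage_of_isOpenImmersion _ ?_
        rw [Scheme.Opens.opensRange_ι]
        exact le_iSup (fun a : Fin (r + 1) => V a.castSucc) a
      · rw [← Scheme.Hom.preimage_iSup]
        ext x
        simp only [TopologicalSpace.Opens.coe_top, Set.mem_univ, iff_true]
        exact x.2

end

/-- Stalks of higher direct images along the inclusion of an open subset which is locally the union of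
`r + 1` affine opens. -/
theorem not_mem_supp_of_locUnion (K : Type u) [Field K] {Y : Scheme.{u}}
    (aY : Y ⟶ Spec (CommRingCat.of K)) [LocallyOfFiniteType aY] (N : ℕ)
    (hY : ∀ y : Y, EtPBC.ResTrdegLE aY y N) (r : ℕ) (W : Y.Opens) (hW : LocUnion (r + 1) W)
    (y : Y) (e : ℕ) (hy : ∀ b, EtPBC.ResTrdegLE aY y b → e ≤ b) (F : EtCoh.Ab W)
    (hF : EtCoh.IsTorsion F) (q : ℕ) (hq : N + r < e + q) :
    y ∉ EtPBC.supp ((EtCoh.Rpush W.ι q).obj F) := by
  obtain ⟨D, hD, hyD, V, hV, hVD⟩ := hW y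
  have : IsAffine D := hD
  let g' : pullback W.ι D.ι ⟶ D := pullback.snd W.ι D.ι
  let j' : pullback W.ι D.ι ⟶ W := pullback.fst W.ι D.ι
  have hsq : IsPullback j' g' W.ι D.ι := IsPullback.of_hasPullback _ _
  have key := mem_supp_Rpush_iff_of_isPullback D.ι W.ι j' g' hsq F q ⟨y, hyD⟩
  have hyy : D.ι ⟨y, hyD⟩ = y := rfl
  rw [hyy] at key
  rw [key]
  let c : pullback W.ι D.ι ⟶ Y := j' ≫ W.ι
  have hc : c.opensRange = W ⊓ D := by
    ext z
    simp only [Scheme.Hom.coe_opensRange, TopologicalSpace.Opens.coe_inf]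
    have h1 := IsOpenImmersion.range_pullback_to_base_of_left W.ι D.ι
    have h2 : (pullback.fst W.ι D.ι ≫ W.ι) = c := rfl
    rw [h2] at h1
    rw [h1]
    simp
  refine not_mem_supp_of_union K (D.ι ≫ aY) N (fun z => resTrdegLE_open K aY N hY D.ι z) ⟨y, hyD⟩ e
    ?_ r g' (fun i => c ⁻¹ᵁ V i) (fun i => ?_) ?_ _ (Groth.Agent.Etcore.Torsion.isTorsion_pull _ F hF)
    q hq
  · intro b hb
    exact hy b ((resTrdegLE_comp_iff aY D.ι ⟨y, hyD⟩ (algAt_of_surjectiveOnStalks D.ι _) b).1 hb)
  · refine (hV i).preimage_of_isOpenImmersion _ ?_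
    rw [hc, ← hVD]
    exact le_iSup V i
  · rw [← Scheme.Hom.preimage_iSup, hVD, ← hc]
    ext z
    simp

/-- Cohomological dimension of an open subset which is locally the union of `r` affine opens. -/
theorem H_subsingleton_of_locUnion (K : Type u) [Field K] [IsSepClosed K] {Y : Scheme.{u}} [IsAffine Y]
    (aY : Y ⟶ Spec (CommRingCat.of K)) [LocallyOfFiniteType aY] (N : ℕ)
    (hY : ∀ y : Y, EtPBC.ResTrdegLE aY y N) (r : ℕ) (hr : 1 ≤ r) (W : Y.Opens) (hW : LocUnion r W)
    (F : EtCoh.Ab W) (hF : EtCoh.IsTorsion F) (n : ℕ) (hn : N + r ≤ n) :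
    Subsingleton (EtCoh.H W F n) := by
  obtain ⟨r, rfl⟩ : ∃ r', r = r' + 1 := ⟨r - 1, by omega⟩
  have hqc : QuasiCompact W.ι := quasiCompact_of_open K aY W.ι
  have hPK : ∀ a, PK K 0 a := fun a => PK_of_PA a (PA_all a) K 0 (cohDimLE_of_isSepClosed K)
  refine CdEtLeray.H_subsingleton_of_leray W.ι F n ?_ ?_
  · exact hPK N Y aY hY _ (RpushTors.isTorsion_push W.ι F hF) n (by omega)
  · intro p q hpq
    by_cases hq : q + 1 ≤ N + r
    · refine QK_of_PK K 0 (N + r - (q + 1)) (hPK _) Y aY _ (Groth.Agent.S0125.result W.ι F hF (q + 1))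
        ?_ p (by omega)
      intro y hy
      by_contra hyb
      refine not_mem_supp_of_locUnion K aY N hY r W hW y (N + r - (q + 1) + 1) ?_ F hF (q + 1)
        (by omega) hy
      intro b hb
      by_contra hlt
      exact hyb (resTrdegLE_mono aY y (by omega) hb)
    · refine CdEtLeray.H_subsingleton_of_isZero (isZero_of_forall _ fun y => ?_) p
      exact not_mem_supp_of_locUnion K aY N hY r W hW y 0 (fun _ _ => Nat.zero_le _) F hF (q + 1)
        (by omega)

end Groth.Agent.Sga2lef.H92.RelCd
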