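import Groth.Agent.S3112
import Groth.Agent.Sga5.HcConst2
import Groth.Agent.Sga2lef.H92.RelCd
import Groth.Agent.Sga5.FinShriek
import Groth.Agent.Sga5.ShriekMV
import Groth.Agent.Etrest.ExtZeroComp
import Groth.Agent.S0648
import Groth.Agent.EtpbcA.ArtinDim

/-!
# Vanishing of compactly supported cohomology of affine schemes locally defined by few equations
-/

set_option autoImplicit false
universe u
open CategoryTheory CategoryTheory.Limits AlgebraicGeometry Opposite

namespace Groth.Agent.Sga2lef.H92.HcAff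

open Groth.Agent.EtpbcA Groth.Agent.EtpbcA.Artin Groth.Agent.Sga2lef.H92.LocU
  Groth.Agent.Sga2lef.H92.RelCd Groth.Agent.Sga5.ShriekMV Groth.Agent.Sga5.HcConst
  Groth.Agent.Etcore.OpenClosed Groth.Agent.Sga4B

theorem resTrdegLE_of_smooth (K : Type u) [Field K] {Y : Scheme.{u}} [IsAffine Y]
    (f : Y ⟶ Spec (CommRingCat.of K)) (N : ℕ) [SmoothOfRelativeDimension N f] [LocallyOfFiniteType f]
    (y : Y) : EtPBC.ResTrdegLE f y N :=
  (resTrdegLE_iff_dim K Y f N).1 (topologicalKrullDim_le K N f) y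

/-- `H^q_c(W, Z/m) = 0` for `q ≤ n` if `W` is locally on `Y` the union of `N - n` affine opens, `Y` affine
smooth of dimension `N`. -/
theorem subsingleton_H_open (K : Type u) [Field K] [IsAlgClosed K] {Y Q : Scheme.{u}} [IsAffine Y]
    (gQ : Q ⟶ Spec (CommRingCat.of K)) [IsProper gQ] (a : Y ⟶ Q) [IsOpenImmersion a] (N : ℕ)
    [SmoothOfRelativeDimension N (a ≫ gQ)] (W : Y.Opens) (n : ℕ) (hn : n + 1 ≤ N)
    (hW : LocUnion (N - n) W) (m : ℕ) (hm : (m : K) ≠ 0) (q : ℕ) (hq : q ≤ n) :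
    Subsingleton (EtCoh.H Q ((EtShriek.extZero (W.ι ≫ a)).obj (EtCoh.const W (ZMod m))) q) := by
  have hm0 : m ≠ 0 := by
    rintro rfl
    exact hm (by simp)
  have hsm : SmoothOfRelativeDimension N ((W.ι ≫ a) ≫ gQ) := by
    rw [Category.assoc]
    have h0 : SmoothOfRelativeDimension (0 + N) (W.ι ≫ (a ≫ gQ)) := inferInstance
    rwa [zero_add] at h0
  obtain ⟨e⟩ := Groth.Agent.S3112.result K gQ (W.ι ≫ a) N m hm q (by omega)
  have h1 : Subsingleton (EtCoh.H W (EtDual.tate W m N) (2 * N - q)) :=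
    H_subsingleton_of_locUnion K (a ≫ gQ) N (resTrdegLE_of_smooth K (a ≫ gQ) N) (N - n) (by omega) W
      hW _ (isTorsion_of_killedBy m hm0 _ (killedBy_tate W m N)) _ (by omega)
  have h2 := e.symm.toEquiv.subsingleton
  exact subsingleton_of_hom_zmod m hm0
    (H_nsmul_eq_zero m _ (ShriekTools.killedBy_extZero (W.ι ≫ a) m _
      (killedBy_const W m (ZMod m) (zmod_nsmul m))) q) h2

/-- The closed part. -/
theorem subsingleton_H_closed (K : Type u) [Field K] [IsAlgClosed K] {U Y Q : Scheme.{u}} [IsAffine Y]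
    (gQ : Q ⟶ Spec (CommRingCat.of K)) [IsProper gQ] (a : Y ⟶ Q) [IsOpenImmersion a] (N : ℕ)
    [SmoothOfRelativeDimension N (a ≫ gQ)] (i : U ⟶ Y) [IsClosedImmersion i] (n : ℕ) (hn : n + 1 ≤ N)
    (hW : LocUnion (N - n) (compl i)) (m : ℕ) (hm : (m : K) ≠ 0) (q : ℕ) (hq : q < n) :
    Subsingleton (EtCoh.H Q ((EtShriek.extZero a).obj ((EtCoh.push i).obj (EtCoh.const U (ZMod m)))) q) := by
  let W := compl i
  let G : EtCoh.Ab Y := EtCoh.const Y (ZMod m)
  have hd : IsCompl (Set.range i) (Set.range W.ι) := by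
    rw [Scheme.Opens.range_ι]
    exact isCompl_compl
  have hex := shortExact i W.ι hd G
  have hfl : PreservesFiniteLimits (EtShriek.extZero a) := Groth.Agent.S0648.result a
  have hex' := hex.map_of_exact (EtShriek.extZero a)
  -- the constant sheaf on the closed part
  let e3 : (EtShriek.extZero a).obj ((EtCoh.push i).obj ((EtCoh.pull i).obj G)) ≅
      (EtShriek.extZero a).obj ((EtCoh.push i).obj (EtCoh.const U (ZMod m))) :=
    (EtShriek.extZero a).mapIso ((EtCoh.push i).mapIso (EtCore.pullConst i (ZMod m)))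
  refine subsingleton_H_of_iso e3 q (subsingleton_right hex' q ?_ ?_)
  · exact Groth.Agent.Sga5.HcConst2.subsingleton_H_extZero_zmod K gQ a N m hm q (by omega)
  · let e1 : (EtShriek.extZero a).obj ((EtShriek.extZero W.ι).obj ((EtShriek.restrAlong W.ι).obj G)) ≅
        (EtShriek.extZero (W.ι ≫ a)).obj (EtCoh.const W (ZMod m)) :=
      (Groth.Agent.Etrest.ExtZeroComp.extZeroComp W.ι a).app _ ≪≫
        (EtShriek.extZero (W.ι ≫ a)).mapIso
          (((Groth.Agent.Etcore.ShriekBasic.pullIsoRestr W.ι).app G).symm ≪≫ EtCore.pullConst W.ι (ZMod m))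
    exact subsingleton_H_of_iso e1.symm (q + 1) (subsingleton_H_open K gQ a N W n hn hW m hm (q + 1) hq)

end Groth.Agent.Sga2lef.H92.HcAff
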