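import Groth.Agent.S0659
import Groth.Agent.S0101
import Groth.Agent.EtpbcB.PBCVan
import Groth.Agent.EtpbcA.ArtinTransfer
import Groth.Agent.Etcore.Torsion

/-!
# Mayer-Vietoris for the stalks of higher direct images along an open immersion

* `mv_step`: vanishing of `H^{n+1}(X, F)` from an open covering `X = U ∪ V`;
* `LocUnion r W`: the open subset `W ⊆ Y` is, locally on `Y`, a union of `r` affine opens;
* `van_mv`: Mayer-Vietoris for `Van`.
-/

set_option autoImplicit false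
universe u
open CategoryTheory CategoryTheory.Limits AlgebraicGeometry Opposite

namespace Groth.Agent.Sga2lef.H92.MV

open Groth.Agent.EtpbcB Groth.Agent.EtpbcB.PBCVan

/-- Mayer-Vietoris vanishing. -/
theorem mv_step (X : Scheme.{u}) (U V : X.Opens) (hUV : U ⊔ V = ⊤) (F : EtCoh.Ab X) (n : ℕ)
    (h : Subsingleton (EtCoh.H ↑(U ⊓ V) ((EtCoh.pull (U ⊓ V).ι).obj F) n))
    (h1 : Subsingleton (EtCoh.H ↑U ((EtCoh.pull U.ι).obj F) (n + 1)))
    (h2 : Subsingleton (EtCoh.H ↑V ((EtCoh.pull V.ι).obj F) (n + 1))) :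
    Subsingleton (EtCoh.H X F (n + 1)) := by
  have := Groth.Agent.S0101.result U.ι
  have := Groth.Agent.S0101.result V.ι
  have := Groth.Agent.S0101.result (X.homOfLE (inf_le_left : U ⊓ V ≤ U))
  have := Groth.Agent.S0101.result (X.homOfLE (inf_le_right : U ⊓ V ≤ V))
  obtain ⟨δ, -, hδ, -, -⟩ := Groth.Agent.S0659.result X U V hUV F
  apply subsingleton_of_forall_eq 0
  intro x
  have hx : x ∈ (AddMonoidHom.prod (EtCore.Hpull U.ι F (n + 1))
      (EtCore.Hpull V.ι F (n + 1))).ker := by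
    rw [AddMonoidHom.mem_ker]
    exact Subsingleton.elim _ _
  rw [hδ n] at hx
  obtain ⟨y, rfl⟩ := hx
  rw [Subsingleton.elim y 0, map_zero]

/-- Restriction of `Van` to an open subset. -/
theorem van_open_iff {U Y T : Scheme.{u}} (j : U ⟶ Y) (t : T ⟶ Y) (F : EtCoh.Ab U) (O : U.Opens)
    (n : ℕ) :
    Subsingleton (EtCoh.H ((pullback.fst j t) ⁻¹ᵁ O) ((EtCoh.pull ((pullback.fst j t) ⁻¹ᵁ O).ι).obj
      ((EtCoh.pull (pullback.fst j t)).obj F)) n) ↔
    Van (O.ι ≫ j) t ((EtCoh.pull O.ι).obj F) n := by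
  have h0 : IsPullback ((pullback.fst j t) ∣_ O) (((pullback.fst j t) ⁻¹ᵁ O).ι ≫ pullback.snd j t)
      (O.ι ≫ j) t :=
    (isPullback_morphismRestrict (pullback.fst j t) O).paste_vert (IsPullback.of_hasPullback j t)
  rw [van_iff h0]
  have hw : ((pullback.fst j t) ∣_ O) ≫ O.ι = ((pullback.fst j t) ⁻¹ᵁ O).ι ≫ pullback.fst j t :=
    morphismRestrict_ι _ _
  exact ((IsoTransport.HPullComp _ _ _ rfl F n).symm.trans
    (IsoTransport.HPullComp _ _ _ hw F n)).toEquiv.subsingleton_congr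

/-- Mayer-Vietoris for `Van`. -/
theorem van_mv {U Y T : Scheme.{u}} (j : U ⟶ Y) (t : T ⟶ Y) (F : EtCoh.Ab U) (A B : U.Opens)
    (hAB : A ⊔ B = ⊤) (n : ℕ)
    (h0 : Van ((A ⊓ B).ι ≫ j) t ((EtCoh.pull (A ⊓ B).ι).obj F) n)
    (h1 : Van (A.ι ≫ j) t ((EtCoh.pull A.ι).obj F) (n + 1))
    (h2 : Van (B.ι ≫ j) t ((EtCoh.pull B.ι).obj F) (n + 1)) :
    Van j t F (n + 1) := by
  rw [← van_open_iff] at h0 h1 h2
  refine mv_step (pullback j t) ((pullback.fst j t) ⁻¹ᵁ A) ((pullback.fst j t) ⁻¹ᵁ B) ?_ _ n ?_ h1 h2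
  · rw [← Scheme.Hom.preimage_sup, hAB]
    rfl
  · exact h0

end Groth.Agent.Sga2lef.H92.MV
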