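import Groth.Agent.Sga2lef.H92.AffCase
import Groth.Agent.Sga2lef.H92.Descend
import Groth.Agent.Sga2lef.H92.VanOpens
import Groth.Agent.Etcore.ShriekBaseChange

/-!
# Vanishing of `H^q(X, V_! Z/m)` for `V` affine open of geometric depth `≥ n` at the closed points
-/

set_option autoImplicit false
universe u
open CategoryTheory CategoryTheory.Limits AlgebraicGeometry Opposite

namespace Groth.Agent.Sga2lef.H92.VanAff

open Groth.Agent.Sga2lef.H92.EmbData Groth.Agent.Sga2lef.H92.VanOpens Groth.Agent.Sga2lef.H92.ClosedImm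

/-- `H^q(X, V_! Z/m) = 0` for `q < n` if `V` is an affine open with a good embedding. -/
theorem vanO_of_emb (k : Type u) [Field k] [CharZero k] {X : Scheme.{u}}
    (f : X ⟶ Spec (CommRingCat.of k)) [IsProper f] (m : ℕ) (hm : 0 < m) (V : X.Opens) (n : ℕ)
    (hE : Emb k (V.ι ≫ f) n) (q : ℕ) (hq : q < n) : VanO (ZMod m) V q := by
  unfold VanO
  refine Descend.H_subsingleton_of_algClosed f _ n ?_ q hq
  intro L _ _ t W w g hsq q hq
  have hsq' : IsPullback (pullback.fst w V.ι) (pullback.snd w V.ι) w V.ι :=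
    IsPullback.of_hasPullback w V.ι
  have hsq2 : IsPullback (pullback.snd w V.ι) (pullback.fst w V.ι ≫ g) (V.ι ≫ f) t :=
    hsq'.flip.paste_vert hsq
  have hg : IsProper g := MorphismProperty.of_isPullback hsq ‹IsProper f›
  let φ : k →+* L := (Spec.preimage t).hom
  have hL : CharZero L := charZero_of_injective_ringHom φ.injective
  have hmL : (m : L) ≠ 0 := Nat.cast_ne_zero.2 hm.ne'
  have h1 := AffCase.subsingleton_H_of_emb L g (pullback.fst w V.ι) n
    (hE.baseChange t _ _ hsq2) m hmL q hq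
  let e : (EtCoh.pull w).obj ((EtShriek.extZero V.ι).obj (EtCoh.const V (ZMod m))) ≅
      (EtShriek.extZero (pullback.fst w V.ι)).obj (EtCoh.const _ (ZMod m)) :=
    ((Groth.Agent.Etcore.ShriekBaseChange.extZeroBaseChange V.ι w (pullback.fst w V.ι)
      (pullback.snd w V.ι) hsq').app _).symm ≪≫
      (EtShriek.extZero (pullback.fst w V.ι)).mapIso (EtCore.pullConst (pullback.snd w V.ι) (ZMod m))
  exact Groth.Agent.EtpbcA.CdEtLeray.H_subsingleton_of_iso e.symm q h1

/-- `H^q(X, V_! Z/m) = 0` for `q < n` if `V` is an affine open of geometric depth `≥ n` at closed points. -/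
theorem vanO_affine (k : Type u) [Field k] [CharZero k] {X : Scheme.{u}}
    (f : X ⟶ Spec (CommRingCat.of k)) [IsProper f] (m : ℕ) (hm : 0 < m) (V : X.Opens)
    (hV : IsAffineOpen V) (n : ℕ)
    (hdepth : ∀ u : X, u ∈ V → IsClosed ({u} : Set X) → Pres n (X.presheaf.stalk u))
    (q : ℕ) (hq : q < n) : VanO (ZMod m) V q :=
  vanO_of_emb k f m hm V n (emb_of_depth k X f V hV n hdepth) q hq

/-- The general case: `H^q(X, U_! Z/m) = 0` for `q + c < n`, `U` a union of `c + 1` affine opens. -/
theorem vanO_union (k : Type u) [Field k] [CharZero k] {X : Scheme.{u}}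
    (f : X ⟶ Spec (CommRingCat.of k)) [IsProper f] (m : ℕ) (hm : 0 < m) (c : ℕ)
    (V : Fin (c + 1) → X.Opens) (hV : ∀ i, IsAffineOpen (V i)) (n : ℕ)
    (hdepth : ∀ u : X, u ∈ (⨆ i, V i) → IsClosed ({u} : Set X) → Pres n (X.presheaf.stalk u))
    (q : ℕ) (hq : q + c < n) : VanO (ZMod m) (⨆ i, V i) q := by
  have hsep : IsSeparated (terminal.from X) := by
    have h : f ≫ terminal.from _ = terminal.from X := Subsingleton.elim _ _
    rw [← h]
    infer_instance
  exact vanO_iSup (ZMod m) (⨆ i, V i) n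
    (fun O hO hOU q hq => vanO_affine k f m hm O hO n (fun u hu => hdepth u (hOU hu)) q hq) c V hV
    (fun i => le_iSup V i) q hq

end Groth.Agent.Sga2lef.H92.VanAff
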